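import Cfsg.Agent.M24C.InvX

set_option autoImplicit false
set_option Elab.async false
set_option maxRecDepth 100000
set_option linter.all false

namespace Cfsg.Agent.M24C
open Cfsg.Agent.CGT

open Cfsg.Agent.Inv

noncomputable def cS : Srch := ⟨5, x_ts, chainBase [] c2_ls, [2], [2], []⟩
noncomputable def cR6_0 : ℕ := 0x100000
noncomputable def cR4_0 : ℕ := 0x800000
noncomputable def cR2_0 : ℕ := 0x100000
noncomputable def cR0_0 : ℕ := 0x800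
theorem c_aux : cS.auxB [0, 2, 4, 6, 8, 10, 12, 14, 16, 18, 20] c2_ls [] [0, 2, 0, 10, 0, 17, 0] = true := by decide +kernel
theorem c_r6_0 : cS.run (.cons [6] (.leaf 1) .nil) (⟨c2_l6.b, c2_l6.S, [], cR6_0, 0⟩ :: []) [0] Pd.nil 0 = true := by decide +kernel
theorem c_f6 : freeB cS x_ns [19, 16, 2, 9, 10, 1] c2_l6 cR6_0 [[8], [10], [12]] [2, 1, 0] 0x246158 8 = true := by decide +kernel
theorem c_r4_0 : cS.run (.cons [8, 0] .nil .nil) (⟨c2_l4.b, c2_l4.S, [], cR4_0, 0⟩ :: [c2_l5, c2_l6]) [0, 17, 0] Pd.nil 0 = true := by decide +kernel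
theorem c_f4 : freeB cS x_ns [2, 9, 10, 1] c2_l4 cR4_0 [[6], [8], [10], [12]] [3, 2, 1] 0x6d61d8 12 = true := by decide +kernel
theorem c_r2_0 : cS.run (.cons [10, 0] .nil .nil) (⟨c2_l2.b, c2_l2.S, [], cR2_0, 0⟩ :: [c2_l3, c2_l4, c2_l5, c2_l6]) [0, 10, 0, 17, 0] Pd.nil 0 = true := by decide +kernel
theorem c_f2 : freeB cS x_ns [10, 1] c2_l2 cR2_0 [[4], [6], [8], [10], [12]] [4, 3, 2] 0x6d63dc 14 = true := by decide +kernel
theorem c_r0_0 : cS.run (.cons [20, 2] .nil .nil) (⟨c2_l0.b, c2_l0.S, [], cR0_0, 0⟩ :: [c2_l1, c2_l2, c2_l3, c2_l4, c2_l5, c2_l6]) [0, 2, 0, 10, 0, 17, 0] Pd.nil 0 = true := by decide +kernel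
theorem c_f0 : freeB cS x_ns [] c2_l0 cR0_0 [[0], [2], [4], [6], [8], [10], [12]] [6, 5, 4] 0x6d67de 16 = true := by decide +kernel
theorem c_cb {G : Type*} [Group G] {φ : G →* Equiv.Perm ℕ} {γ : ℕ → G}
    (C : Cert φ γ 5 x_ns x_ts [0, 2, 4, 6, 8, 10, 12, 14, 16, 18, 20] c2_ls) : CB φ (ev (ext γ) [2]) [] (16 * (14 * (12 * (8 * (1))))) :=
  haveI := C.fin
  have X := C.exact
  have A := Srch.auxB_sound (S := cS) C.M (K := ⊤) le_top rfl c_aux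
  (CB.free (S := cS) C.M C.base rfl rfl X (Srch.found_of_run (S := cS) C.M C.base (by decide +kernel) X A c_r0_0) c_f0
    (CB.forced (S := cS) A.2 (CB.free (S := cS) C.M C.base rfl rfl X.2.2 (Srch.found_of_run (S := cS) C.M C.base (by decide +kernel) X.2.2 A.2.2 c_r2_0) c_f2
    (CB.forced (S := cS) A.2.2.2 (CB.free (S := cS) C.M C.base rfl rfl X.2.2.2.2 (Srch.found_of_run (S := cS) C.M C.base (by decide +kernel) X.2.2.2.2 A.2.2.2.2 c_r4_0) c_f4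
    (CB.forced (S := cS) A.2.2.2.2.2 (CB.free (S := cS) C.M C.base rfl rfl X.2.2.2.2.2.2 (Srch.found_of_run (S := cS) C.M C.base (by decide +kernel) X.2.2.2.2.2.2 A.2.2.2.2.2.2 c_r6_0) c_f6
    (CB.base X.2.2.2.2.2.2.2))))))))
theorem cent_cert {G : Type*} [Group G] {φ : G →* Equiv.Perm ℕ} {γ : ℕ → G}
    (C : Cert φ γ 5 x_ns x_ts [0, 2, 4, 6, 8, 10, 12, 14, 16, 18, 20] c2_ls) :
    orderOf (ev (ext γ) [2]) = 2 ∧ ∃ δ : ℕ → Subgroup.centralizer {ev (ext γ) [2]}, (∀ j, (δ j : G) = tk γ 7 j) ∧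
      Cert (φ.comp (Subgroup.subtype _)) δ 5 y_ns y_ts [0, 2, 4, 6, 8, 10, 12] cc_ls :=
  ⟨ord2B_sound C.M C.base (b := 1) (by decide +kernel),
    Inv.cert_cent C.M C.base rfl rfl (by decide +kernel) (c_cb C) cc_sound (by decide +kernel)⟩

end Cfsg.Agent.M24C
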