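import Cfsg.Agent.M24C.InvPR

set_option autoImplicit false
set_option Elab.async false
set_option maxRecDepth 100000
set_option linter.all false

namespace Cfsg.Agent.M24C
open Cfsg.Agent.CGT

noncomputable def ql0_n0 : Net := Net.cons 1 0x55 <|
  Net.cons 2 0x30 <|
  Net.nil
noncomputable def ql0_n2 : Net := Net.cons 4 0x8 <|
  Net.cons 2 0x2 <|
  Net.cons 1 0x44 <|
  Net.cons 2 0x2 <|
  Net.cons 4 0x8 <|
  Net.nil
noncomputable def ql0_n3 : Net := Net.cons 4 0x4 <|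
  Net.cons 2 0x10 <|
  Net.cons 4 0xc <|
  Net.nil
noncomputable def ql0_n4 : Net := Net.cons 1 0x10 <|
  Net.cons 2 0x2 <|
  Net.nil
noncomputable def ql0_n5 : Net := Net.cons 4 0x2 <|
  Net.cons 1 0x10 <|
  Net.cons 2 0x2 <|
  Net.cons 4 0x2 <|
  Net.nil
noncomputable def ql0_n6 : Net := Net.cons 4 0x8 <|
  Net.cons 2 0x20 <|
  Net.cons 1 0x10 <|
  Net.cons 2 0x20 <|
  Net.cons 4 0xa <|
  Net.nil
noncomputable def ql0_ns : List Net := [ql0_n0, Net.nil, ql0_n2, ql0_n3, ql0_n4, ql0_n5, ql0_n6]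
noncomputable def ql0_R : List (List ℕ) := [[0, 0], [2, 2], [4, 4], [6, 6], [8, 8], [10, 10], [12, 12], [12, 10, 12, 10], [8, 10, 8, 10], [8, 12, 8, 12], [6, 8, 6, 8, 6, 8], [6, 10, 6, 10, 6, 10], [6, 12, 6, 8, 6, 12, 6, 8, 12], [6, 12, 6, 10, 6, 12, 6, 10, 12], [4, 6, 4, 6, 4, 6], [4, 12, 4, 12, 4, 12], [4, 6, 4, 8, 4, 6, 4, 12], [4, 6, 4, 10, 4, 6, 4, 10], [2, 4, 2, 4], [2, 6, 2, 6], [2, 8, 2, 8], [2, 10, 2, 10], [0, 6, 0, 6], [10, 4, 0, 4, 6, 4, 8, 12, 0, 4, 12], [12, 0, 12, 8, 10, 0, 2, 8, 10], [6, 10, 0, 10, 0, 6, 8, 0, 8]]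
noncomputable def ql0_S0 : List (List ℕ) := [[2], [4], [6], [8], [10], [12]]
noncomputable def ql0_E : Enum := ⟨ql0_ns, ql0_R, ql0_S0, [], 0⟩
theorem ql0_v : validAll (2 ^ 3) ql0_ns = true := by decide +kernel
theorem ql0_p0 : holdsB 3 ql0_ns ql0_R = true := by decide +kernel
theorem ql0_p : Holds (lp ql0_ns) ql0_R := holdsB_sound ql0_v ql0_p0
theorem ql0_f : allL ql0_E.Sub (fixN ql0_E.ns ql0_E.b0) = true := by decide +kernel
theorem ql0_r0 : ql0_E.run [2, 0, 18, 8, 26, 12, 34, 16, 2, 0, 3, 7, 11, 15, 19, 23, 4184, 56, 28764, 24, 4132, 16480, 20, 20580, 12, 4124, 88, 4136, 4140, 24672, 100, 4196, 12388, 24676, 72, 76, 80, 4184, 76, 28736, 60, 4144, 24676, 8288, 24672, 4188, 8, 12380] (1 <<< 0) (List.replicate 14 0) (Enum.done 8 [0, 2, 4, 6, 8, 10, 12]) = true := by decide +kernel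
theorem ql0_fin {G : Type*} [Group G] {γ : ℕ → G} (hR : Holds (ext γ) ql0_R) {H : Subgroup G}
    (hS : ∀ u ∈ ql0_S0, ev (ext γ) u ∈ H) : ql0_E.Fin γ H 8 [0, 2, 4, 6, 8, 10, 12] :=
  have hy : ql0_E.Hyp γ H := Enum.hyp_of ql0_v hR ql0_p hS ql0_f
  (Enum.fin_of_done hy (Enum.inv_init 14) ql0_r0)
noncomputable def ql1_n1 : Net := Net.cons 1 0x1 <|
  Net.nil
noncomputable def ql1_ns : List Net := [Net.nil, ql1_n1, Net.nil, Net.nil, Net.nil, Net.nil, Net.nil]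
noncomputable def ql1_R : List (List ℕ) := [[2, 2], [4, 4], [6, 6], [8, 8], [10, 10], [12, 12], [12, 10, 12, 10], [8, 10, 8, 10], [8, 12, 8, 12], [6, 8, 6, 8, 6, 8], [6, 10, 6, 10, 6, 10], [6, 12, 6, 8, 6, 12, 6, 8, 12], [6, 12, 6, 10, 6, 12, 6, 10, 12], [4, 6, 4, 6, 4, 6], [4, 12, 4, 12, 4, 12], [4, 6, 4, 8, 4, 6, 4, 12], [4, 6, 4, 10, 4, 6, 4, 10], [2, 4, 2, 4], [2, 6, 2, 6], [2, 8, 2, 8], [2, 10, 2, 10]]
noncomputable def ql1_S0 : List (List ℕ) := [[4], [6], [8], [10], [12]]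
noncomputable def ql1_E : Enum := ⟨ql1_ns, ql1_R, ql1_S0, [], 0⟩
theorem ql1_v : validAll (2 ^ 3) ql1_ns = true := by decide +kernel
theorem ql1_p0 : holdsB 3 ql1_ns ql1_R = true := by decide +kernel
theorem ql1_p : Holds (lp ql1_ns) ql1_R := holdsB_sound ql1_v ql1_p0
theorem ql1_f : allL ql1_E.Sub (fixN ql1_E.ns ql1_E.b0) = true := by decide +kernel
theorem ql1_r0 : ql1_E.run [10, 0, 3, 7, 11, 15, 19, 4164, 4168, 4172, 4176, 28732] (1 <<< 0) (List.replicate 14 0) (Enum.done 2 [2, 4, 6, 8, 10, 12]) = true := by decide +kernel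
theorem ql1_fin {G : Type*} [Group G] {γ : ℕ → G} (hR : Holds (ext γ) ql1_R) {H : Subgroup G}
    (hS : ∀ u ∈ ql1_S0, ev (ext γ) u ∈ H) : ql1_E.Fin γ H 2 [2, 4, 6, 8, 10, 12] :=
  have hy : ql1_E.Hyp γ H := Enum.hyp_of ql1_v hR ql1_p hS ql1_f
  (Enum.fin_of_done hy (Enum.inv_init 14) ql1_r0)
noncomputable def ql2_n2 : Net := Net.cons 4 0x808 <|
  Net.cons 2 0x2200 <|
  Net.cons 1 0x1441 <|
  Net.cons 2 0x2200 <|
  Net.cons 4 0x808 <|
  Net.nil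
noncomputable def ql2_n3 : Net := Net.cons 8 0x80 <|
  Net.cons 4 0x800 <|
  Net.cons 2 0x22 <|
  Net.cons 1 0x444 <|
  Net.cons 2 0x2022 <|
  Net.cons 4 0x800 <|
  Net.cons 8 0x80 <|
  Net.nil
noncomputable def ql2_n4 : Net := Net.cons 8 0x20 <|
  Net.cons 4 0xa00 <|
  Net.cons 2 0x20 <|
  Net.cons 1 0x110 <|
  Net.cons 2 0x2022 <|
  Net.cons 4 0xa00 <|
  Net.cons 8 0x20 <|
  Net.nil
noncomputable def ql2_n5 : Net := Net.cons 8 0x20 <|
  Net.cons 4 0x2 <|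
  Net.cons 2 0x200 <|
  Net.cons 1 0x110 <|
  Net.cons 2 0x200 <|
  Net.cons 4 0x20a <|
  Net.cons 8 0x20 <|
  Net.nil
noncomputable def ql2_n6 : Net := Net.cons 8 0x18 <|
  Net.cons 4 0x200 <|
  Net.cons 2 0x200 <|
  Net.cons 1 0x1100 <|
  Net.cons 2 0x200 <|
  Net.cons 4 0x20a <|
  Net.cons 8 0x18 <|
  Net.nil
noncomputable def ql2_ns : List Net := [Net.nil, Net.nil, ql2_n2, ql2_n3, ql2_n4, ql2_n5, ql2_n6]
noncomputable def ql2_R : List (List ℕ) := [[4, 4], [6, 6], [8, 8], [10, 10], [12, 12], [12, 10, 12, 10], [8, 10, 8, 10], [8, 12, 8, 12], [6, 8, 6, 8, 6, 8], [6, 10, 6, 10, 6, 10], [6, 12, 6, 8, 6, 12, 6, 8, 12], [6, 12, 6, 10, 6, 12, 6, 10, 12], [4, 6, 4, 6, 4, 6], [4, 12, 4, 12, 4, 12], [4, 6, 4, 8, 4, 6, 4, 12], [4, 6, 4, 10, 4, 6, 4, 10]]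
noncomputable def ql2_S0 : List (List ℕ) := [[6], [8], [10], [12]]
noncomputable def ql2_E : Enum := ⟨ql2_ns, ql2_R, ql2_S0, [], 0⟩
theorem ql2_v : validAll (2 ^ 4) ql2_ns = true := by decide +kernel
theorem ql2_p0 : holdsB 4 ql2_ns ql2_R = true := by decide +kernel
theorem ql2_p : Holds (lp ql2_ns) ql2_R := holdsB_sound ql2_v ql2_p0
theorem ql2_f : allL ql2_E.Sub (fixN ql2_E.ns ql2_E.b0) = true := by decide +kernel
theorem ql2_r0 : ql2_E.run [18, 0, 26, 4, 34, 8, 42, 12, 50, 16, 18, 0, 26, 4, 4116, 24, 28, 3, 7, 11, 15, 48, 52, 4152, 4, 12344, 28728, 12348, 32, 36, 40, 4136, 12328, 44, 4140, 12332, 4128, 4132, 52, 4156, 48, 12344, 28728, 12348, 52, 4152, 4, 4128, 4132, 28728, 52] (1 <<< 0) (List.replicate 14 0) (Enum.done 14 [4, 6, 8, 10, 12]) = true := by decide +kernel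
theorem ql2_fin {G : Type*} [Group G] {γ : ℕ → G} (hR : Holds (ext γ) ql2_R) {H : Subgroup G}
    (hS : ∀ u ∈ ql2_S0, ev (ext γ) u ∈ H) : ql2_E.Fin γ H 14 [4, 6, 8, 10, 12] :=
  have hy : ql2_E.Hyp γ H := Enum.hyp_of ql2_v hR ql2_p hS ql2_f
  (Enum.fin_of_done hy (Enum.inv_init 14) ql2_r0)
noncomputable def ql3_n3 : Net := Net.cons 8 0x30 <|
  Net.cons 1 0x401 <|
  Net.cons 4 0x300 <|
  Net.cons 8 0x30 <|
  Net.nil
noncomputable def ql3_n4 : Net := Net.cons 8 0x80 <|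
  Net.cons 4 0x808 <|
  Net.cons 2 0x2 <|
  Net.cons 1 0x404 <|
  Net.cons 2 0x32 <|
  Net.cons 4 0x808 <|
  Net.cons 8 0x80 <|
  Net.nil
noncomputable def ql3_n5 : Net := Net.cons 8 0x40 <|
  Net.cons 4 0x4 <|
  Net.cons 1 0x50 <|
  Net.cons 2 0x32 <|
  Net.cons 4 0x404 <|
  Net.cons 8 0x40 <|
  Net.nil
noncomputable def ql3_n6 : Net := Net.cons 8 0x20 <|
  Net.cons 4 0x402 <|
  Net.cons 2 0x2000 <|
  Net.cons 1 0x4010 <|
  Net.cons 2 0x2000 <|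
  Net.cons 4 0x40e <|
  Net.cons 8 0x20 <|
  Net.nil
noncomputable def ql3_ns : List Net := [Net.nil, Net.nil, Net.nil, ql3_n3, ql3_n4, ql3_n5, ql3_n6]
noncomputable def ql3_R : List (List ℕ) := [[6, 6], [8, 8], [10, 10], [12, 12], [12, 10, 12, 10], [8, 10, 8, 10], [8, 12, 8, 12], [6, 8, 6, 8, 6, 8], [6, 10, 6, 10, 6, 10], [6, 12, 6, 8, 6, 12, 6, 8, 12], [6, 12, 6, 10, 6, 12, 6, 10, 12]]
noncomputable def ql3_S0 : List (List ℕ) := [[8], [10], [12]]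
noncomputable def ql3_E : Enum := ⟨ql3_ns, ql3_R, ql3_S0, [], 0⟩
theorem ql3_v : validAll (2 ^ 4) ql3_ns = true := by decide +kernel
theorem ql3_p0 : holdsB 4 ql3_ns ql3_R = true := by decide +kernel
theorem ql3_p : Holds (lp ql3_ns) ql3_R := holdsB_sound ql3_v ql3_p0
theorem ql3_f : allL ql3_E.Sub (fixN ql3_E.ns ql3_E.b0) = true := by decide +kernel
theorem ql3_r0 : ql3_E.run [26, 0, 34, 4, 42, 8, 50, 12, 26, 0, 4112, 20, 24, 3, 7, 11, 28, 32, 4128, 4124, 36, 4132, 12324, 40, 4136, 12328, 4124] (1 <<< 0) (List.replicate 14 0) (Enum.done 12 [6, 8, 10, 12]) = true := by decide +kernel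
theorem ql3_fin {G : Type*} [Group G] {γ : ℕ → G} (hR : Holds (ext γ) ql3_R) {H : Subgroup G}
    (hS : ∀ u ∈ ql3_S0, ev (ext γ) u ∈ H) : ql3_E.Fin γ H 12 [6, 8, 10, 12] :=
  have hy : ql3_E.Hyp γ H := Enum.hyp_of ql3_v hR ql3_p hS ql3_f
  (Enum.fin_of_done hy (Enum.inv_init 14) ql3_r0)
noncomputable def ql4_n4 : Net := Net.cons 1 0x1 <|
  Net.nil
noncomputable def ql4_ns : List Net := [Net.nil, Net.nil, Net.nil, Net.nil, ql4_n4, Net.nil, Net.nil]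
noncomputable def ql4_R : List (List ℕ) := [[8, 8], [10, 10], [12, 12], [12, 10, 12, 10], [8, 10, 8, 10], [8, 12, 8, 12]]
noncomputable def ql4_S0 : List (List ℕ) := [[10], [12]]
noncomputable def ql4_E : Enum := ⟨ql4_ns, ql4_R, ql4_S0, [], 0⟩
theorem ql4_v : validAll (2 ^ 3) ql4_ns = true := by decide +kernel
theorem ql4_p0 : holdsB 3 ql4_ns ql4_R = true := by decide +kernel
theorem ql4_p : Holds (lp ql4_ns) ql4_R := holdsB_sound ql4_v ql4_p0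
theorem ql4_f : allL ql4_E.Sub (fixN ql4_E.ns ql4_E.b0) = true := by decide +kernel
theorem ql4_r0 : ql4_E.run [34, 0, 3, 7, 4112, 4116] (1 <<< 0) (List.replicate 14 0) (Enum.done 2 [8, 10, 12]) = true := by decide +kernel
theorem ql4_fin {G : Type*} [Group G] {γ : ℕ → G} (hR : Holds (ext γ) ql4_R) {H : Subgroup G}
    (hS : ∀ u ∈ ql4_S0, ev (ext γ) u ∈ H) : ql4_E.Fin γ H 2 [8, 10, 12] :=
  have hy : ql4_E.Hyp γ H := Enum.hyp_of ql4_v hR ql4_p hS ql4_f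
  (Enum.fin_of_done hy (Enum.inv_init 14) ql4_r0)
noncomputable def ql5_n5 : Net := Net.cons 1 0x1 <|
  Net.nil
noncomputable def ql5_ns : List Net := [Net.nil, Net.nil, Net.nil, Net.nil, Net.nil, ql5_n5, Net.nil]
noncomputable def ql5_R : List (List ℕ) := [[10, 10], [12, 12], [12, 10, 12, 10]]
noncomputable def ql5_S0 : List (List ℕ) := [[12]]
noncomputable def ql5_E : Enum := ⟨ql5_ns, ql5_R, ql5_S0, [], 0⟩
theorem ql5_v : validAll (2 ^ 3) ql5_ns = true := by decide +kernel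
theorem ql5_p0 : holdsB 3 ql5_ns ql5_R = true := by decide +kernel
theorem ql5_p : Holds (lp ql5_ns) ql5_R := holdsB_sound ql5_v ql5_p0
theorem ql5_f : allL ql5_E.Sub (fixN ql5_E.ns ql5_E.b0) = true := by decide +kernel
theorem ql5_r0 : ql5_E.run [42, 0, 3, 8] (1 <<< 0) (List.replicate 14 0) (Enum.done 2 [10, 12]) = true := by decide +kernel
theorem ql5_fin {G : Type*} [Group G] {γ : ℕ → G} (hR : Holds (ext γ) ql5_R) {H : Subgroup G}
    (hS : ∀ u ∈ ql5_S0, ev (ext γ) u ∈ H) : ql5_E.Fin γ H 2 [10, 12] :=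
  have hy : ql5_E.Hyp γ H := Enum.hyp_of ql5_v hR ql5_p hS ql5_f
  (Enum.fin_of_done hy (Enum.inv_init 14) ql5_r0)
noncomputable def ql6_n6 : Net := Net.cons 1 0x1 <|
  Net.nil
noncomputable def ql6_ns : List Net := [Net.nil, Net.nil, Net.nil, Net.nil, Net.nil, Net.nil, ql6_n6]
noncomputable def ql6_R : List (List ℕ) := [[12, 12]]
noncomputable def ql6_S0 : List (List ℕ) := []
noncomputable def ql6_E : Enum := ⟨ql6_ns, ql6_R, ql6_S0, [], 0⟩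
theorem ql6_v : validAll (2 ^ 3) ql6_ns = true := by decide +kernel
theorem ql6_p0 : holdsB 3 ql6_ns ql6_R = true := by decide +kernel
theorem ql6_p : Holds (lp ql6_ns) ql6_R := holdsB_sound ql6_v ql6_p0
theorem ql6_f : allL ql6_E.Sub (fixN ql6_E.ns ql6_E.b0) = true := by decide +kernel
theorem ql6_r0 : ql6_E.run [50, 0] (1 <<< 0) (List.replicate 14 0) (Enum.done 2 [12]) = true := by decide +kernel
theorem ql6_fin {G : Type*} [Group G] {γ : ℕ → G} (hR : Holds (ext γ) ql6_R) {H : Subgroup G}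
    (hS : ∀ u ∈ ql6_S0, ev (ext γ) u ∈ H) : ql6_E.Fin γ H 2 [12] :=
  have hy : ql6_E.Hyp γ H := Enum.hyp_of ql6_v hR ql6_p hS ql6_f
  (Enum.fin_of_done hy (Enum.inv_init 14) ql6_r0)
theorem qbd6 {G : Type*} [Group G] {γ : ℕ → G} (hR : Holds (ext γ) qRR) : Bd (gp γ [12]) 2 :=
  Bd.step (ql6_fin (hR.subR (by decide +kernel)) (wordsIn_sound γ (L := []) (by decide +kernel))) (Bd.gp_nil γ) (by norm_num)
theorem qbd5 {G : Type*} [Group G] {γ : ℕ → G} (hR : Holds (ext γ) qRR) : Bd (gp γ [10, 12]) 4 :=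
  Bd.step (ql5_fin (hR.subR (by decide +kernel)) (wordsIn_sound γ (L := [12]) (by decide +kernel))) (qbd6 hR) (by norm_num)
theorem qbd4 {G : Type*} [Group G] {γ : ℕ → G} (hR : Holds (ext γ) qRR) : Bd (gp γ [8, 10, 12]) 8 :=
  Bd.step (ql4_fin (hR.subR (by decide +kernel)) (wordsIn_sound γ (L := [10, 12]) (by decide +kernel))) (qbd5 hR) (by norm_num)
theorem qbd3 {G : Type*} [Group G] {γ : ℕ → G} (hR : Holds (ext γ) qRR) : Bd (gp γ [6, 8, 10, 12]) 96 :=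
  Bd.step (ql3_fin (hR.subR (by decide +kernel)) (wordsIn_sound γ (L := [8, 10, 12]) (by decide +kernel))) (qbd4 hR) (by norm_num)
theorem qbd2 {G : Type*} [Group G] {γ : ℕ → G} (hR : Holds (ext γ) qRR) : Bd (gp γ [4, 6, 8, 10, 12]) 1344 :=
  Bd.step (ql2_fin (hR.subR (by decide +kernel)) (wordsIn_sound γ (L := [6, 8, 10, 12]) (by decide +kernel))) (qbd3 hR) (by norm_num)
theorem qbd1 {G : Type*} [Group G] {γ : ℕ → G} (hR : Holds (ext γ) qRR) : Bd (gp γ [2, 4, 6, 8, 10, 12]) 2688 :=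
  Bd.step (ql1_fin (hR.subR (by decide +kernel)) (wordsIn_sound γ (L := [4, 6, 8, 10, 12]) (by decide +kernel))) (qbd2 hR) (by norm_num)
theorem qbd0 {G : Type*} [Group G] {γ : ℕ → G} (hR : Holds (ext γ) qRR) : Bd (gp γ [0, 2, 4, 6, 8, 10, 12]) 21504 :=
  Bd.step (ql0_fin (hR.subR (by decide +kernel)) (wordsIn_sound γ (L := [2, 4, 6, 8, 10, 12]) (by decide +kernel))) (qbd1 hR) (by norm_num)

end Cfsg.Agent.M24C
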