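import Cfsg.Agent.Gol.Cert
import Cfsg.Agent.Inv.Cent

set_option autoImplicit false
set_option Elab.async false
set_option maxRecDepth 100000
set_option linter.all false

namespace Cfsg.Agent.M24C
open Cfsg.Agent.CGT

open Cfsg.Agent.Inv

noncomputable def x_n0 : Net := Net.cons 16 0x2a90 <|
  Net.cons 8 0xc00d0 <|
  Net.cons 4 0x800000c <|
  Net.cons 2 0x2002000 <|
  Net.cons 1 0x4001055 <|
  Net.cons 2 0x22222103 <|
  Net.cons 4 0x801000c <|
  Net.cons 8 0xc00d0 <|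
  Net.cons 16 0x2ad0 <|
  Net.nil
noncomputable def x_n1 : Net := Net.cons 16 0x244 <|
  Net.cons 8 0x4002c <|
  Net.cons 4 0xc00 <|
  Net.cons 2 0x2220002 <|
  Net.cons 1 0x4414054 <|
  Net.cons 2 0x2220102 <|
  Net.cons 4 0xc00 <|
  Net.cons 8 0x4002c <|
  Net.cons 16 0x244 <|
  Net.nil
noncomputable def x_n2 : Net := Net.cons 16 0x5920 <|
  Net.cons 8 0x500080 <|
  Net.cons 4 0x804000c <|
  Net.cons 2 0x20200002 <|
  Net.cons 1 0x10140001 <|
  Net.cons 2 0x20200012 <|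
  Net.cons 4 0x806020c <|
  Net.cons 8 0x510080 <|
  Net.cons 16 0x5920 <|
  Net.nil
noncomputable def x_n3 : Net := Net.cons 16 0x840 <|
  Net.cons 8 0x1000d0 <|
  Net.cons 4 0x8040002 <|
  Net.cons 2 0x20000020 <|
  Net.cons 1 0x10000011 <|
  Net.cons 2 0x20233020 <|
  Net.cons 4 0x80e0002 <|
  Net.cons 8 0x1000d0 <|
  Net.cons 16 0x840 <|
  Net.nil
noncomputable def x_n4 : Net := Net.cons 16 0x9060 <|
  Net.cons 8 0x200060 <|
  Net.cons 4 0x80202 <|
  Net.cons 2 0x200 <|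
  Net.cons 1 0x101 <|
  Net.cons 2 0x20020012 <|
  Net.cons 4 0xc0202 <|
  Net.cons 8 0x300049 <|
  Net.cons 16 0x9060 <|
  Net.nil
noncomputable def x_n5 : Net := Net.cons 16 0x8190 <|
  Net.cons 8 0xa000b0 <|
  Net.cons 4 0x20c0a08 <|
  Net.cons 2 0x2000 <|
  Net.cons 1 0x1001000 <|
  Net.cons 2 0x122220 <|
  Net.cons 4 0x20c0a09 <|
  Net.cons 8 0xa000f0 <|
  Net.cons 16 0x8190 <|
  Net.nil
noncomputable def x_n6 : Net := Net.cons 16 0x1920 <|
  Net.cons 8 0xb400c0 <|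
  Net.cons 4 0x2020008 <|
  Net.cons 2 0x20002002 <|
  Net.cons 1 0x10104051 <|
  Net.cons 2 0x23002002 <|
  Net.cons 4 0x2020008 <|
  Net.cons 8 0xb400c0 <|
  Net.cons 16 0x1920 <|
  Net.nil
noncomputable def x_n7 : Net := Net.cons 16 0x60a0 <|
  Net.cons 8 0x2000c0 <|
  Net.cons 4 0x2 <|
  Net.cons 2 0x20020020 <|
  Net.cons 1 0x40144011 <|
  Net.cons 2 0x20020020 <|
  Net.cons 4 0x102 <|
  Net.cons 8 0x2000c8 <|
  Net.cons 16 0x60a0 <|
  Net.nil
noncomputable def x_n8 : Net := Net.cons 16 0x29a4 <|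
  Net.cons 8 0xd800c0 <|
  Net.cons 4 0x2080008 <|
  Net.cons 1 0x41004040 <|
  Net.cons 2 0x200021 <|
  Net.cons 4 0xb0a0001 <|
  Net.cons 8 0xd80000 <|
  Net.cons 16 0x29a4 <|
  Net.nil
noncomputable def x_n9 : Net := Net.cons 16 0x18c8 <|
  Net.cons 8 0x1800c8 <|
  Net.cons 4 0x8060004 <|
  Net.cons 2 0x20020200 <|
  Net.cons 1 0x10044100 <|
  Net.cons 2 0x20120230 <|
  Net.cons 4 0x80e0004 <|
  Net.cons 8 0x1800c8 <|
  Net.cons 16 0x18c8 <|
  Net.nil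
noncomputable def x_n10 : Net := Net.cons 16 0x6080 <|
  Net.cons 8 0xc00000 <|
  Net.cons 2 0x200000 <|
  Net.cons 1 0x410400 <|
  Net.cons 2 0x20200031 <|
  Net.cons 4 0x105 <|
  Net.cons 8 0xc00000 <|
  Net.cons 16 0x6080 <|
  Net.nil
noncomputable def x_ns : List Net := [x_n0, x_n1, x_n2, x_n3, x_n4, x_n5, x_n6, x_n7, x_n8, x_n9, x_n10]
noncomputable def x_R : List (List ℕ) := [[0, 0], [2, 2], [4, 4], [6, 6], [8, 8], [10, 10], [12, 12], [14, 14], [18, 18], [20, 20]]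
noncomputable def x_t0 : Tab := (.leaf 0xffbbcdeb38a18f76a564006658a24aad99010dcf)
noncomputable def x_t2 : Tab := (.leaf 0xffbbcdeb38b9cd480e337a08c5844eb54ad92540)
noncomputable def x_t4 : Tab := (.leaf 0xffbbcdeb3865aab748a804d37a29b039a221902f)
noncomputable def x_t6 : Tab := (.leaf 0xffbbcdeb388926bacae6638efa29286c01618825)
noncomputable def x_t8 : Tab := (.leaf 0xffbbcdeb388d86c99af0291140292d3c9eea882b)
noncomputable def x_t10 : Tab := (.leaf 0xffbbcdeb382d90b991f089860a29353baf26882c)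
noncomputable def x_t12 : Tab := (.leaf 0xffbbcdeb38a58979a19000cd12a9323b5757082f)
noncomputable def x_t14 : Tab := (.leaf 0xffbbcdeb383580d9c650216881a92c3ddcf58835)
noncomputable def x_t16 : Tab := (.leaf 0xffbbcdeb38a9dcdb017035d0c2a93498e3278824)
noncomputable def x_t17 : Tab := (.leaf 0xffbbcdeb3874ee8390b01d68c8a92db3d6030832)
noncomputable def x_t18 : Tab := (.leaf 0xffbbcdeb38b5cc3432302b9b23a9335d5e2a1020)
noncomputable def x_t20 : Tab := (.leaf 0xffbbcdeb382d9d49ca117d4e852d2c682e219026)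
noncomputable def x_ts : List Tab := [x_t0, x_t0, x_t2, x_t2, x_t4, x_t4, x_t6, x_t6, x_t8, x_t8, x_t10, x_t10, x_t12, x_t12, x_t14, x_t14, x_t16, x_t17, x_t18, x_t18, x_t20, x_t20]
theorem x_v : validAll (2 ^ 5) x_ns = true := by decide +kernel
noncomputable def x_W : List (List ℕ) := [[12, 10, 4, 8, 1, 12, 10, 12, 14, 10, 0, 2], [4, 6, 4, 0, 8, 12, 8, 1, 6, 4, 6], [14, 4, 0, 2, 6, 2, 10, 4, 14], [0, 14, 2, 0, 14, 6, 2, 1], [0, 14, 2, 6, 8, 6, 2, 14, 1], [14, 1, 6, 8, 0, 6, 1, 4, 0, 14], [14, 2, 8, 2, 14], [14, 8, 6, 4, 0, 6, 1, 14], [10, 8, 6, 2, 10, 8, 1, 8, 14, 10], [0, 8, 10, 6, 0, 2, 6, 10, 1], [0, 10, 14, 4, 10, 0, 2, 1, 6]]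
noncomputable def y_ns : List Net := [x_n0, x_n1, x_n2, x_n3, x_n4, x_n5, x_n6]
noncomputable def y_ts : List Tab := [x_t0, x_t0, x_t2, x_t2, x_t4, x_t4, x_t6, x_t6, x_t8, x_t8, x_t10, x_t10, x_t12, x_t12]
noncomputable def c2_l0 : Level := ⟨1, [[0], [2], [4], [6], [8], [10], [12], [14], [16], [18], [20]], [], 0xffffff, 24⟩
noncomputable def c2_l1 : Level := ⟨10, [[4], [6], [8], [10], [12], [14], [16], [18], [20]], [], 0xfffffd, 23⟩
noncomputable def c2_l2 : Level := ⟨9, [[4], [6], [8], [10], [12], [14], [16], [18]], [], 0xfffbfd, 22⟩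
noncomputable def c2_l3 : Level := ⟨2, [[6], [8], [10], [12], [14], [16], [18]], [], 0xfff9fd, 21⟩
noncomputable def c2_l4 : Level := ⟨16, [[6], [8], [10], [12], [14], [16]], [], 0xfff9f9, 20⟩
noncomputable def c2_l5 : Level := ⟨19, [[8], [10], [12], [14], [16]], [], 0x480080, 3⟩
noncomputable def c2_l6 : Level := ⟨13, [[8], [10], [12], [14]], [], 0xb6f979, 16⟩
noncomputable def c2_ls : List Level := [c2_l0, c2_l1, c2_l2, c2_l3, c2_l4, c2_l5, c2_l6]
noncomputable def cc_l0 : Level := ⟨1, [[0], [2], [4], [6], [8], [10], [12]], [], 0x6d67de, 16⟩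
noncomputable def cc_l1 : Level := ⟨10, [], [], 0x400, 1⟩
noncomputable def cc_l2 : Level := ⟨9, [[4], [6], [8], [10], [12]], [], 0x6d63dc, 14⟩
noncomputable def cc_l3 : Level := ⟨2, [], [], 0x4, 1⟩
noncomputable def cc_l4 : Level := ⟨16, [[6], [8], [10], [12]], [], 0x6d61d8, 12⟩
noncomputable def cc_l5 : Level := ⟨19, [], [], 0x80000, 1⟩
noncomputable def cc_l6 : Level := ⟨13, [[8], [10], [12]], [], 0x246158, 8⟩
noncomputable def cc_ls : List Level := [cc_l0, cc_l1, cc_l2, cc_l3, cc_l4, cc_l5, cc_l6]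
theorem x_p : Holds (lp x_ns) x_R := holdsB_sound x_v (by decide +kernel)
theorem x_t0_b : Tab.beq (mkTab 5 0 x_ns 0) x_t0 = true := by decide +kernel
theorem x_t2_b : Tab.beq (mkTab 5 0 x_ns 2) x_t2 = true := by decide +kernel
theorem x_t4_b : Tab.beq (mkTab 5 0 x_ns 4) x_t4 = true := by decide +kernel
theorem x_t6_b : Tab.beq (mkTab 5 0 x_ns 6) x_t6 = true := by decide +kernel
theorem x_t8_b : Tab.beq (mkTab 5 0 x_ns 8) x_t8 = true := by decide +kernel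
theorem x_t10_b : Tab.beq (mkTab 5 0 x_ns 10) x_t10 = true := by decide +kernel
theorem x_t12_b : Tab.beq (mkTab 5 0 x_ns 12) x_t12 = true := by decide +kernel
theorem x_t14_b : Tab.beq (mkTab 5 0 x_ns 14) x_t14 = true := by decide +kernel
theorem x_t16_b : Tab.beq (mkTab 5 0 x_ns 16) x_t16 = true := by decide +kernel
theorem x_t17_b : Tab.beq (mkTab 5 0 x_ns 17) x_t17 = true := by decide +kernel
theorem x_t18_b : Tab.beq (mkTab 5 0 x_ns 18) x_t18 = true := by decide +kernel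
theorem x_t20_b : Tab.beq (mkTab 5 0 x_ns 20) x_t20 = true := by decide +kernel
theorem x_e0 : extJ 5 Gol.m24_ns x_ns x_W 0 = true := by decide +kernel
theorem x_e1 : extJ 5 Gol.m24_ns x_ns x_W 1 = true := by decide +kernel
theorem x_e2 : extJ 5 Gol.m24_ns x_ns x_W 2 = true := by decide +kernel
theorem x_e3 : extJ 5 Gol.m24_ns x_ns x_W 3 = true := by decide +kernel
theorem x_e4 : extJ 5 Gol.m24_ns x_ns x_W 4 = true := by decide +kernel
theorem x_e5 : extJ 5 Gol.m24_ns x_ns x_W 5 = true := by decide +kernel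
theorem x_e6 : extJ 5 Gol.m24_ns x_ns x_W 6 = true := by decide +kernel
theorem x_e7 : extJ 5 Gol.m24_ns x_ns x_W 7 = true := by decide +kernel
theorem x_e8 : extJ 5 Gol.m24_ns x_ns x_W 8 = true := by decide +kernel
theorem x_e9 : extJ 5 Gol.m24_ns x_ns x_W 9 = true := by decide +kernel
theorem x_e10 : extJ 5 Gol.m24_ns x_ns x_W 10 = true := by decide +kernel
theorem c2_l0_ok : c2_l0.okT 5 x_ts [0, 2, 4, 6, 8, 10, 12, 14, 16, 18, 20] [] (.cons [0] (.cons [4] .nil (.cons [8] (.cons [0] .nil (.cons [6] .nil (.cons [17] .nil .nil))) (.cons [10] .nil (.cons [12] (.cons [0] (.cons [2] .nil .nil) (.cons [2] .nil (.cons [10] .nil (.cons [16] .nil (.cons [18] .nil .nil))))) (.cons [14] (.cons [0] .nil (.cons [4] .nil .nil)) (.cons [16] .nil (.cons [17] .nil .nil))))))) (.cons [2] (.cons [0] .nil (.cons [20] (.cons [18] .nil .nil) .nil)) .nil)) = true := by decide +kernel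
theorem c2_l1_ok : c2_l1.okT 5 x_ts [0, 2, 4, 6, 8, 10, 12, 14, 16, 18, 20] [1] (.cons [16] (.cons [0] (.cons [13] .nil .nil) (.cons [4] (.cons [0] .nil (.cons [6] .nil (.cons [10] .nil (.cons [12] (.cons [0] .nil .nil) (.cons [13] .nil (.cons [16] .nil .nil)))))) (.cons [8] (.cons [6] .nil .nil) (.cons [10] (.cons [6] (.cons [0] .nil .nil) (.cons [8] .nil .nil)) (.cons [13] (.cons [16] .nil .nil) (.cons [14] (.cons [12] .nil (.cons [13] .nil .nil)) .nil)))))) .nil) = true := by decide +kernel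
theorem c2_l2_ok : c2_l2.okT 5 x_ts [0, 2, 4, 6, 8, 10, 12, 14, 16, 18, 20] [10, 1] (.cons [0] (.cons [2] (.cons [12] .nil (.cons [13] .nil .nil)) (.cons [4] (.cons [10] .nil .nil) (.cons [6] (.cons [4] .nil (.cons [8] (.cons [4] (.cons [0] .nil .nil) .nil) (.cons [10] (.cons [4] .nil (.cons [8] .nil (.cons [13] .nil .nil))) (.cons [12] .nil .nil)))) (.cons [8] (.cons [2] .nil (.cons [4] .nil (.cons [10] .nil .nil))) (.cons [10] .nil .nil))))) .nil) = true := by decide +kernel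
theorem c2_l3_ok : c2_l3.okT 5 x_ts [0, 2, 4, 6, 8, 10, 12, 14, 16, 18, 20] [9, 10, 1] (.cons [12] (.cons [0] (.cons [10] .nil .nil) (.cons [2] (.cons [4] (.cons [0] .nil .nil) (.cons [6] (.cons [4] .nil (.cons [12] .nil .nil)) (.cons [10] .nil .nil))) (.cons [4] (.cons [6] .nil .nil) (.cons [6] (.cons [0] .nil .nil) (.cons [8] (.cons [4] .nil .nil) (.cons [11] (.cons [0] .nil (.cons [2] .nil (.cons [4] .nil .nil))) .nil)))))) .nil) = true := by decide +kernel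
theorem c2_l4_ok : c2_l4.okT 5 x_ts [0, 2, 4, 6, 8, 10, 12, 14, 16, 18, 20] [2, 9, 10, 1] (.cons [0] (.cons [2] .nil (.cons [4] (.cons [2] (.cons [0] .nil .nil) (.cons [8] .nil .nil)) (.cons [6] (.cons [0] (.cons [10] .nil .nil) (.cons [2] .nil (.cons [8] .nil .nil))) (.cons [8] .nil (.cons [10] (.cons [2] .nil (.cons [8] .nil .nil)) (.cons [11] (.cons [0] .nil (.cons [4] .nil (.cons [6] .nil .nil))) .nil)))))) .nil) = true := by decide +kernel
theorem c2_l5_ok : c2_l5.okT 5 x_ts [0, 2, 4, 6, 8, 10, 12, 14, 16, 18, 20] [16, 2, 9, 10, 1] (.cons [8] .nil (.cons [9] .nil .nil)) = true := by decide +kernel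
theorem c2_l6_ok : c2_l6.okT 5 x_ts [0, 2, 4, 6, 8, 10, 12, 14, 16, 18, 20] [19, 16, 2, 9, 10, 1] (.cons [0] (.cons [6] (.cons [4] .nil .nil) .nil) (.cons [2] (.cons [0] .nil (.cons [4] (.cons [0] .nil .nil) (.cons [6] (.cons [0] (.cons [4] .nil .nil) (.cons [4] .nil .nil)) .nil))) (.cons [4] (.cons [0] .nil (.cons [6] .nil .nil)) (.cons [6] .nil .nil)))) = true := by decide +kernel
theorem cc_l0_ok : cc_l0.okT 5 y_ts [0, 2, 4, 6, 8, 10, 12] [] (.cons [0] (.cons [4] .nil (.cons [8] (.cons [0] .nil (.cons [6] .nil .nil)) (.cons [10] .nil (.cons [12] (.cons [0] (.cons [2] .nil .nil) (.cons [2] .nil (.cons [8] .nil (.cons [10] (.cons [6] .nil .nil) .nil)))) .nil)))) (.cons [2] (.cons [0] .nil .nil) .nil)) = true := by decide +kernel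
theorem cc_l1_ok : (ptsOK 5 [1] && (wordsIn [0, 2, 4, 6, 8, 10, 12] cc_l1.S && cc_l1.ok 5 y_ns y_ts [1])) = true := by decide +kernel
theorem cc_l2_ok : cc_l2.okT 5 y_ts [0, 2, 4, 6, 8, 10, 12] [10, 1] (.cons [0] (.cons [2] .nil (.cons [4] .nil (.cons [6] (.cons [4] .nil (.cons [8] (.cons [0] .nil (.cons [4] (.cons [0] .nil (.cons [2] .nil .nil)) .nil)) .nil)) (.cons [8] (.cons [2] .nil (.cons [4] .nil .nil)) .nil)))) .nil) = true := by decide +kernel
theorem cc_l3_ok : (ptsOK 5 [9, 10, 1] && (wordsIn [0, 2, 4, 6, 8, 10, 12] cc_l3.S && cc_l3.ok 5 y_ns y_ts [9, 10, 1])) = true := by decide +kernel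
theorem cc_l4_ok : cc_l4.okT 5 y_ts [0, 2, 4, 6, 8, 10, 12] [2, 9, 10, 1] (.cons [0] (.cons [2] .nil (.cons [4] (.cons [2] (.cons [0] .nil .nil) .nil) (.cons [6] (.cons [0] .nil (.cons [2] .nil (.cons [4] (.cons [2] (.cons [0] .nil .nil) .nil) .nil))) .nil))) .nil) = true := by decide +kernel
theorem cc_l5_ok : (ptsOK 5 [16, 2, 9, 10, 1] && (wordsIn [0, 2, 4, 6, 8, 10, 12] cc_l5.S && cc_l5.ok 5 y_ns y_ts [16, 2, 9, 10, 1])) = true := by decide +kernel
theorem cc_l6_ok : cc_l6.okT 5 y_ts [0, 2, 4, 6, 8, 10, 12] [19, 16, 2, 9, 10, 1] (.cons [0] .nil (.cons [2] (.cons [0] .nil (.cons [4] (.cons [0] .nil .nil) .nil)) (.cons [4] (.cons [0] .nil .nil) .nil))) = true := by decide +kernel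
theorem x_ts_ok : TabsOK 5 (lp x_ns) x_ts :=
  TabsFrom.ok ⟨TabOK.of_beq x_v x_t0_b,
    TabOK.next (j := 0) (TabOK.of_beq x_v x_t0_b) x_p (by decide +kernel),
    TabOK.of_beq x_v x_t2_b,
    TabOK.next (j := 1) (TabOK.of_beq x_v x_t2_b) x_p (by decide +kernel),
    TabOK.of_beq x_v x_t4_b,
    TabOK.next (j := 2) (TabOK.of_beq x_v x_t4_b) x_p (by decide +kernel),
    TabOK.of_beq x_v x_t6_b,
    TabOK.next (j := 3) (TabOK.of_beq x_v x_t6_b) x_p (by decide +kernel),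
    TabOK.of_beq x_v x_t8_b,
    TabOK.next (j := 4) (TabOK.of_beq x_v x_t8_b) x_p (by decide +kernel),
    TabOK.of_beq x_v x_t10_b,
    TabOK.next (j := 5) (TabOK.of_beq x_v x_t10_b) x_p (by decide +kernel),
    TabOK.of_beq x_v x_t12_b,
    TabOK.next (j := 6) (TabOK.of_beq x_v x_t12_b) x_p (by decide +kernel),
    TabOK.of_beq x_v x_t14_b,
    TabOK.next (j := 7) (TabOK.of_beq x_v x_t14_b) x_p (by decide +kernel),
    TabOK.of_beq x_v x_t16_b,
    TabOK.of_beq x_v x_t17_b,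
    TabOK.of_beq x_v x_t18_b,
    TabOK.next (j := 9) (TabOK.of_beq x_v x_t18_b) x_p (by decide +kernel),
    TabOK.of_beq x_v x_t20_b,
    TabOK.next (j := 10) (TabOK.of_beq x_v x_t20_b) x_p (by decide +kernel),
    Nat.le_of_ble_eq_true (by decide +kernel)⟩
theorem x_ext : extOK 5 Gol.m24_ns x_ns x_W = true := extOK_of rfl (fun j hj => by
    change j < 11 at hj
    interval_cases j
    exacts [x_e0, x_e1, x_e2, x_e3, x_e4, x_e5, x_e6, x_e7, x_e8, x_e9, x_e10])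
theorem c2_sound {G : Type*} [Group G] {φ : G →* Equiv.Perm ℕ} {γ : ℕ → G}
    (M : Model φ γ 5 x_ns x_ts) : ChainSound φ (gp γ [0, 2, 4, 6, 8, 10, 12, 14, 16, 18, 20]) 5 [] c2_ls :=
  ⟨Level.okT_sound M c2_l0_ok,
   Level.okT_sound M c2_l1_ok,
   Level.okT_sound M c2_l2_ok,
   Level.okT_sound M c2_l3_ok,
   Level.okT_sound M c2_l4_ok,
   Level.okT_sound M c2_l5_ok,
   Level.okT_sound M c2_l6_ok, trivial⟩
theorem cc_sound {G : Type*} [Group G] {φ : G →* Equiv.Perm ℕ} {γ : ℕ → G}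
    (M : Model φ γ 5 y_ns y_ts) : ChainSound φ (gp γ [0, 2, 4, 6, 8, 10, 12]) 5 [] cc_ls :=
  ⟨Level.okT_sound M cc_l0_ok,
   Level.ok_sound' M cc_l1_ok,
   Level.okT_sound M cc_l2_ok,
   Level.ok_sound' M cc_l3_ok,
   Level.okT_sound M cc_l4_ok,
   Level.ok_sound' M cc_l5_ok,
   Level.okT_sound M cc_l6_ok, trivial⟩
theorem x_cert {G : Type*} [Group G] {φ : G →* Equiv.Perm ℕ} {γ : ℕ → G}
    (C : Cert φ γ 5 Gol.m24_ns Gol.m24_ts [0, 2, 4, 6, 8, 10, 12, 14] Gol.m24_ls) : Cert φ (wg γ x_W) 5 x_ns x_ts [0, 2, 4, 6, 8, 10, 12, 14, 16, 18, 20] c2_ls :=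
  cert_extend C x_v x_ext x_ts_ok c2_sound (by decide +kernel)

end Cfsg.Agent.M24C
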